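import Groth.Agent.L22.FinAff.Glue
import Mathlib.AlgebraicGeometry.ZariskisMainTheorem

/-!
# Finite sets of points of schemes separated and locally quasi-finite over an affine scheme
-/

universe u

open CategoryTheory CategoryTheory.Limits AlgebraicGeometry TopologicalSpace

set_option autoImplicit false
set_option linter.style.haveILetI false
set_option backward.isDefEq.respectTransparency.types false

namespace Groth.L09.FreeQuot

theorem exists_affine_of_finite_lqf {W P : Scheme.{u}} [IsAffine P] (f : W ⟶ P) [IsSeparated f]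
    [LocallyQuasiFinite f] [LocallyOfFiniteType f] (F : Set W) (hF : F.Finite) :
    ∃ O : W.Opens, IsAffineOpen O ∧ F ⊆ O := by
  choose A hA hxA using fun x : W => (show ∃ A : W.Opens, IsAffineOpen A ∧ x ∈ A from by
    obtain ⟨_, ⟨A, hA, rfl⟩, hx, -⟩ := W.isBasis_affineOpens.exists_subset_of_mem_open (Set.mem_univ x) isOpen_univ
    exact ⟨A, hA, hx⟩)
  let O₀ : W.Opens := ⨆ x ∈ F, A x
  haveI : CompactSpace (O₀ : Scheme.{u}) := isCompact_iff_compactSpace.1 (by
    rw [show (O₀ : Set W) = ⋃ x ∈ F, (A x : Set W) by simp [O₀]]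
    exact hF.isCompact_biUnion fun x _ => (hA x).isCompact)
  let g := O₀.ι ≫ f
  haveI : QuasiCompact g := (HasAffineProperty.iff_of_isAffine (P := @QuasiCompact)).2 inferInstance
  let N := g.normalization
  let j : (O₀ : Scheme.{u}) ⟶ N := g.toNormalization
  haveI : IsOpenImmersion j := inferInstance
  haveI : IsAffine N := isAffine_of_isAffineHom g.fromNormalization
  obtain ⟨b, hb, hFb⟩ := Groth.L22.FinAff.exists_basicOpen_le_finset j.opensRange (j '' (O₀.ι ⁻¹' F))
    ((hF.preimage O₀.ι.isOpenEmbedding.injective.injOn).image _) (by rintro _ ⟨y, -, rfl⟩; exact ⟨y, rfl⟩)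
  refine ⟨O₀.ι ''ᵁ (j ⁻¹ᵁ N.basicOpen b), (((isAffineOpen_top N).basicOpen b).preimage_of_isOpenImmersion j hb).image_of_isOpenImmersion _,
    fun x hx => ?_⟩
  have hxO : x ∈ O₀ := Opens.mem_iSup.2 ⟨x, Opens.mem_iSup.2 ⟨hx, hxA x⟩⟩
  exact ⟨⟨x, hxO⟩, hFb ⟨⟨x, hxO⟩, hx, rfl⟩, rfl⟩

end Groth.L09.FreeQuot
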