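import Groth.Agent.L23.FreeAction
import Groth.Agent.L23.AffineQuot
import Groth.Agent.L23.SchemeLocus
import Groth.Agent.L23.QuotOpen
import Groth.Agent.L23.Cover
import Groth.Agent.L23.AffineMor
import Groth.Agent.L23.Descent
import Groth.Agent.L27.FEtGal.SplitFinite
import Groth.Agent.L24.Boot.QuotRep

/-!
# Quotient of a scheme by a free finite group action with affine orbit neighbourhoods
-/

universe u

open CategoryTheory CategoryTheory.Limits AlgebraicGeometry Opposite AlgSp TopologicalSpace

set_option autoImplicit false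
set_option linter.style.haveILetI false
set_option backward.isDefEq.respectTransparency false
set_option backward.isDefEq.respectTransparency.types false

noncomputable section

namespace Groth.L09.FreeQuot

open Groth.L23

/-- Separatedness descends along universally closed surjections. -/
theorem isSeparated_of_comp {X Y Z : Scheme.{u}} (f : X ⟶ Y) (g : Y ⟶ Z) [Surjective f] [UniversallyClosed f]
    [IsSeparated (f ≫ g)] : IsSeparated g := by
  refine ⟨IsClosedImmersion.of_isPreimmersion _ ?_⟩
  haveI : UniversallyClosed (pullback.map (f ≫ g) (f ≫ g) g g f f (𝟙 Z) (by simp) (by simp)) :=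
    MorphismProperty.pullbackMap (P := @UniversallyClosed) ‹_› ‹_› rfl rfl
  have h : pullback.diagonal (f ≫ g) ≫ pullback.map (f ≫ g) (f ≫ g) g g f f (𝟙 Z) (by simp) (by simp) =
      f ≫ pullback.diagonal g := by
    apply pullback.hom_ext <;> simp
  have hr : Set.range (pullback.diagonal g) =
      (pullback.map (f ≫ g) (f ≫ g) g g f f (𝟙 Z) (by simp) (by simp)) '' Set.range (pullback.diagonal (f ≫ g)) := by
    rw [← Set.range_comp, ← f.surjective.range_comp]
    exact congrArg (fun m : X ⟶ pullback g g => Set.range m) h.symm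
  rw [hr]
  exact Scheme.Hom.isClosedMap _ _ (pullback.diagonal (f ≫ g)).isClosedEmbedding.isClosed_range

variable {S : Scheme.{u}} {U : Over S} {G : Type u} [Group G] [Finite G] (ρ : G →* Aut U)

/-- The action is free: no non-trivial element fixes a point together with its residue field. -/
abbrev IsFreeAct : Prop := ∀ (g : G) (x : U.left), g ≠ 1 →
  U.left.fromSpecResidueField x ≫ (ρ g).hom.left ≠ U.left.fromSpecResidueField x

variable {ρ}

/-- The orbit of a point. -/
def orbit (ρ : G →* Aut U) (x : U.left) : Set U.left := Set.range fun g => (ρ g).hom.left x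

theorem rho_apply (g h : G) (x : U.left) : (ρ g).hom.left ((ρ h).hom.left x) = (ρ (g * h)).hom.left x := by
  rw [FreeAction.rho_mul ρ g h, Over.comp_left]; rfl

theorem rho_one_apply (x : U.left) : (ρ 1).hom.left x = x := by
  rw [FreeAction.rho_one ρ]; rfl

/-- An invariant affine neighbourhood of each orbit. -/
theorem exists_invariant_affine [U.left.IsSeparated]
    (haff : ∀ F : Set U.left, F.Finite → ∃ O : U.left.Opens, IsAffineOpen O ∧ F ⊆ O) (x : U.left) :
    ∃ O : U.left.Opens, IsAffineOpen O ∧ x ∈ O ∧ ∀ g : G, ∀ y ∈ O, (ρ g).hom.left y ∈ O := by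
  obtain ⟨O, hO, hxO⟩ := haff (orbit ρ x) (Set.finite_range _)
  haveI : ∀ g : G, IsIso (ρ g).hom.left := fun g => inferInstanceAs (IsIso ((Over.forget S).map (ρ g).hom))
  haveI : IsAffineHom (pullback.diagonal (terminal.from U.left)) := inferInstance
  refine ⟨⨅ g : G, (ρ g).hom.left ⁻¹ᵁ O, IsAffineOpen.iInf fun g => hO.preimage _, ?_, fun g y hy => ?_⟩
  · rw [← SetLike.mem_coe, Opens.coe_iInf]
    exact Set.mem_iInter.2 fun g => hxO ⟨g, rfl⟩
  · rw [← SetLike.mem_coe, Opens.coe_iInf] at hy ⊢
    refine Set.mem_iInter.2 fun h => ?_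
    show (ρ h).hom.left ((ρ g).hom.left y) ∈ O
    rw [rho_apply]
    exact Set.mem_iInter.1 hy (h * g)

/-- A free action of a finite group with affine orbit neighbourhoods has a scheme quotient. -/
theorem exists_quotient [U.left.IsSeparated] (hfree : IsFreeAct ρ)
    (haff : ∀ F : Set U.left, F.Finite → ∃ O : U.left.Opens, IsAffineOpen O ∧ F ⊆ O) :
    ∃ (M : Over S) (q : U ⟶ M), IsFinite q.left ∧ Etale q.left ∧ Surjective q.left ∧
      (∀ g, (ρ g).hom ≫ q = q) ∧
      (∀ {F : Sp S} (f : (yon S).obj U ⟶ F), (∀ g, (yon S).map (ρ g).hom ≫ f = f) →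
        ∃ f' : (yon S).obj M ⟶ F, (yon S).map q ≫ f' = f) ∧
      (∀ (T : Over S) (_ : Subsingleton T.left) (_ : Nonempty T.left) (a b : T ⟶ U), a ≫ q = b ≫ q →
        ∃ g, a ≫ (ρ g).hom = b) ∧
      M.left.IsSeparated := by
  let D : Over S := Over.mk (Sigma.desc fun _ : G => U.hom)
  let c : Cofan (fun _ : G => U) := Cofan.mk D fun g => Over.homMk (Sigma.ι (fun _ : G => U.left) g) (by simp [D])
  have hc : IsColimit c := isColimitOfReflects (Over.forget S)
    ((isColimitMapCoconeCofanMkEquiv (Over.forget S) (fun _ : G => U) _).symm (coproductIsCoproduct _))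
  let s : c.pt ⟶ U := Cofan.IsColimit.desc hc fun _ => 𝟙 U
  let t : c.pt ⟶ U := Cofan.IsColimit.desc hc fun g => (ρ g).hom
  have hs : ∀ g, c.inj g ≫ s = 𝟙 U := Cofan.IsColimit.fac hc _
  have ht : ∀ g, c.inj g ≫ t = (ρ g).hom := Cofan.IsColimit.fac hc _
  have hE := FreeAction.isEtaleEqvRel hc ρ hfree s t hs ht
  haveI : Etale t.left := hE.etale_right
  haveI : Etale s.left := hE.etale_left
  let Q : Sp S := quotSp ((yon S).map s) ((yon S).map t)
  have hQ : IsAlgSpace Q :=
    (Groth.L24.Boot.isAlgSpace_quot_of_flat hE.toIsEqvRel).of_iso (Groth.L24.Boot.quotIso s t)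
  let π : (yon S).obj U ⟶ Q := quotSpπ _ _
  have sq : IsPullback ((yon S).map t) ((yon S).map s) π π :=
    Groth.L24.Boot.isPullback_quotSpπ (Groth.L24.Boot.isEqvRelSp_of_isEqvRel hE.toIsEqvRel)
  have hπr : Representable π := hQ.representable_from_yon π
  haveI : Sheaf.IsLocallySurjective π := (Sheaf.isLocallySurjective_iff_epi' _ π).2
    (inferInstanceAs (Epi (coequalizer.π _ _)))
  haveI hsfin : IsFinite s.left := by
    have h : IsFinite ((FreeAction.leftIso hc).hom ≫ s.left) := by
      have e : (FreeAction.leftIso hc).hom ≫ s.left = Sigma.desc fun _ : G => 𝟙 U.left :=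
        Sigma.hom_ext _ _ fun g => by
          rw [← Category.assoc, FreeAction.ι_leftIso hc g, ← Over.comp_left, hs, Sigma.ι_desc]; rfl
      rw [e]
      let σ : G ≃ Fin (Nat.card G) := Finite.equivFin G
      haveI := Groth.L27.FEtGal.isFinite_foldId (Y := U.left) (Nat.card G)
      have e' : (Sigma.desc fun _ : G => 𝟙 U.left) =
          (Sigma.reindex σ fun _ : Fin (Nat.card G) => U.left).hom ≫ Sigma.desc fun _ : Fin (Nat.card G) => 𝟙 U.left :=
        Sigma.hom_ext _ _ fun g => by
          have hr : Sigma.ι (fun _ : G => U.left) g ≫ (Sigma.reindex σ fun _ : Fin (Nat.card G) => U.left).hom =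
              Sigma.ι (fun _ : Fin (Nat.card G) => U.left) (σ g) :=
            Sigma.ι_reindex_hom σ (fun _ : Fin (Nat.card G) => U.left) g
          rw [← Category.assoc]
          exact (Sigma.ι_desc _ g).trans ((congrArg (· ≫ Sigma.desc fun _ : Fin (Nat.card G) => 𝟙 U.left) hr).trans
            (Sigma.ι_desc (fun _ : Fin (Nat.card G) => 𝟙 U.left) (σ g))).symm
      rw [e']
      infer_instance
    exact (MorphismProperty.cancel_left_of_respectsIso (P := @IsFinite) _ _).1 h
  haveI : Surjective s.left := ⟨fun x => ⟨(c.inj 1).left x, by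
    rw [← Scheme.Hom.comp_apply, ← Over.comp_left, hs]; rfl⟩⟩
  haveI := isLocalAtTarget_fppf (@IsFinite.{u})
  haveI := isLocalAtTarget_fppf (@Etale.{u})
  haveI := isLocalAtTarget_fppf (@Surjective.{u})
  have hπf : RepWith @IsFinite π := repWith_of_locallySurjective hπr sq (repWith_map hsfin)
  have hπe : RepWith @Etale π := repWith_of_locallySurjective hπr sq (repWith_map (show Etale s.left from inferInstance))
  have hπs : RepWith @Surjective π :=
    repWith_of_locallySurjective hπr sq (repWith_map (show Surjective s.left from inferInstance))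
  have hrel : ∀ u u' : U.left, Points.ofPt π u = Points.ofPt π u' → ∃ g, (ρ g).hom.left u' = u := by
    intro u u' e
    obtain ⟨r, hr, hr'⟩ := (ofPt_eq_ofPt_iff sq u u').1 e
    obtain ⟨g, y, rfl⟩ := FreeAction.exists_inj_eq hc r
    rw [← Scheme.Hom.comp_apply, ← Over.comp_left, ht] at hr
    rw [← Scheme.Hom.comp_apply, ← Over.comp_left, hs] at hr'
    exact ⟨g, by rw [← hr', ← hr]; rfl⟩
  -- charts which are schemes
  have hchart : ∀ x : Points Q, ∃ (A : Over S) (a : (yon S).obj A ⟶ Q) (z : ↥A.left),
      RepWith @IsOpenImmersion a ∧ Points.ofPt a z = x := by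
    intro x
    obtain ⟨u, rfl⟩ := surjective_ofPt hπs x
    obtain ⟨O, hO, huO, hOinv⟩ := exists_invariant_affine (ρ := ρ) haff u
    let W : Opens (Points Q) := ⟨Points.ofPt π '' (O : Set U.left), isOpenMap_ofPt hπe _ O.isOpen⟩
    have hWO : openPre W π = O := by
      ext v
      constructor
      · rintro ⟨w, hw, e⟩
        obtain ⟨g, rfl⟩ := hrel v w e.symm
        exact hOinv g w hw
      · exact fun hv => ⟨v, hv, rfl⟩
    obtain ⟨fst, sqW⟩ := isPullback_openSub W π
    haveI : IsAffine (Over.mk ((openPre W π).ι ≫ U.hom)).left := hWO.symm ▸ hO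
    obtain ⟨A, θ, -, hθ⟩ := AQ.exists_iso_of_affine_cover (isAlgSpace_openSub W hQ) (p := fst)
      (repWith_of_isPullback sqW.flip hπf) (repWith_of_isPullback sqW.flip hπe)
      (repWith_of_isPullback sqW.flip hπs)
    have : RepWith @IsOpenImmersion (θ ≫ openSubι W) :=
      repWith_comp (repWith_of_isIso θ) (repWith_openSubι W)
    obtain ⟨z, hz⟩ : Points.ofPt π u ∈ Set.range (Points.ofPt (θ ≫ openSubι W)) := by
      obtain ⟨p, hp⟩ : Points.ofPt π u ∈ Set.range (Points.map (openSubι W)) := by
        rw [range_openSubι]; exact ⟨u, huO, rfl⟩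
      obtain ⟨z, hz⟩ := (Points.schemeEquiv A).surjective (Points.map (inv θ) p)
      refine ⟨z, ?_⟩
      rw [← Points.map_ofPt, Points.ofPt_eq_map_ofScheme]
      show Points.map (openSubι W) (Points.map θ (Points.schemeEquiv A z)) = _
      rw [hz, ← Points.map_comp (inv θ), IsIso.inv_hom_id, Points.map_id, hp]
    exact ⟨A, _, z, this, hz⟩
  obtain ⟨M, θ, hθ⟩ := OpenCharts.exists_scheme_of_open_charts hQ hchart
  obtain ⟨q, hq⟩ := (yon S).map_surjective (π ≫ inv θ)
  have hqP : ∀ {P : MorphismProperty Scheme.{u}} [P.IsStableUnderBaseChange], RepWith P π → P q.left := by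
    intro P _ h
    refine (repWith_yon_map_iff P q).1 ?_
    rw [hq]
    exact (MorphismProperty.cancel_right_of_respectsIso (RepWith P) π (inv θ)).2 h
  haveI : IsFinite q.left := hqP hπf
  haveI : Surjective q.left := hqP hπs
  have hqπ : (yon S).map q ≫ θ = π := by rw [hq, Category.assoc, IsIso.inv_hom_id, Category.comp_id]
  have hinv : ∀ g, (ρ g).hom ≫ q = q := fun g => (yon S).map_injective (by
    rw [Functor.map_comp, hq, ← Category.assoc]
    congr 1
    conv_lhs => rw [← ht g, Functor.map_comp, Category.assoc]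
    rw [show (yon S).map t ≫ π = (yon S).map s ≫ π from (quotSp_condition _ _).symm, ← Category.assoc,
      ← Functor.map_comp, hs]
    exact (congrArg (· ≫ π) ((yon S).map_id U)).trans (Category.id_comp π))
  refine ⟨M, q, ‹_›, hqP hπe, ‹_›, hinv, ?_, ?_, ?_⟩
  · intro F f hf
    refine ⟨θ ≫ quotSpDesc f ?_, by rw [← Category.assoc, hqπ]; exact coequalizer.π_desc _ _⟩
    haveI : ∀ g, IsOpenImmersion (c.inj g).left := FreeAction.isOpenImmersion_inj hc
    refine hom_ext_cover (fun g => c.inj g) (fun r => ?_) fun g => ?_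
    · obtain ⟨g, y, hy⟩ := FreeAction.exists_inj_eq hc r
      exact ⟨g, y, hy⟩
    · rw [← Functor.map_comp_assoc, hs, ← Functor.map_comp_assoc, ht, hf]
      exact (congrArg (· ≫ f) ((yon S).map_id U)).trans (Category.id_comp f)
  · intro T _ _ a b e
    have e' : (yon S).map b ≫ π = (yon S).map a ≫ π := by
      rw [← hqπ, ← Functor.map_comp_assoc, ← Functor.map_comp_assoc, e]
    obtain ⟨r, hr1, hr2⟩ := exists_lift_yon sq b a e'
    obtain ⟨g, y, hy⟩ := FreeAction.exists_inj_eq hc (r.left (Classical.arbitrary T.left))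
    haveI := FreeAction.isOpenImmersion_inj hc g
    let l := IsOpenImmersion.lift (c.inj g).left r.left (by
      rintro _ ⟨z, rfl⟩
      rw [Subsingleton.elim z (Classical.arbitrary T.left), ← hy]
      exact ⟨y, rfl⟩)
    have hl : l ≫ (c.inj g).left = r.left := IsOpenImmersion.lift_fac _ _ _
    let l' : T ⟶ U := Over.homMk l (by rw [← Over.w (c.inj g), ← Category.assoc, hl, Over.w r])
    have hl' : l' ≫ c.inj g = r := Over.OverMorphism.ext hl
    refine ⟨g, ?_⟩
    have h1 : r ≫ t = l' ≫ (ρ g).hom := by rw [← hl', Category.assoc, ht]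
    have h2 : r ≫ s = l' := by rw [← hl', Category.assoc, hs]; exact Category.comp_id _
    rw [← hr2, ← hr1, h1, h2]
  · haveI : IsSeparated (terminal.from U.left) := inferInstance
    refine ⟨?_⟩
    haveI : IsSeparated (q.left ≫ terminal.from M.left) := by rw [terminal.comp_from]; infer_instance
    exact Groth.L09.FreeQuot.isSeparated_of_comp q.left (terminal.from M.left)

end Groth.L09.FreeQuot
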