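import Groth.Prelude.Def_QuotSh
import Mathlib.CategoryTheory.Sites.EpiMono
import Mathlib.CategoryTheory.Sites.LocallyBijective
import Mathlib.AlgebraicGeometry.Sites.Fpqc

/-!
# The quotient map of a representable quotient is surjective
-/

universe u

open CategoryTheory CategoryTheory.Limits AlgebraicGeometry Opposite

set_option linter.style.haveILetI false
set_option backward.isDefEq.respectTransparency false
set_option backward.isDefEq.respectTransparency.types false

noncomputable section

namespace Groth.L09.FreeQuot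

variable {S : Scheme.{u}} {R U M : Over S} {s t : R ⟶ U} {q : U ⟶ M}

set_option linter.style.haveILetI false in
theorem surjective_left_of_isQuotient (h : QuotSh.IsQuotient Scheme.fppfPrecoverage s t q) :
    Surjective q.left := by
  obtain ⟨w, hiso⟩ := h
  have hπ : QuotSh.quotπ Scheme.fppfPrecoverage s t ≫ QuotSh.quotDesc Scheme.fppfPrecoverage q w =
      QuotSh.repMap Scheme.fppfPrecoverage q := coequalizer.π_desc _ _
  haveI : Epi (QuotSh.quotπ Scheme.fppfPrecoverage s t) := inferInstanceAs (Epi (coequalizer.π _ _))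
  haveI hepi : Epi (QuotSh.repMap Scheme.fppfPrecoverage q) := by rw [← hπ]; infer_instance
  haveI : Sheaf.IsLocallySurjective (QuotSh.repMap Scheme.fppfPrecoverage q) :=
    (Sheaf.isLocallySurjective_iff_epi' _ _).2 hepi
  have hls : Presheaf.IsLocallySurjective (QuotSh.J Scheme.fppfPrecoverage S)
      (Functor.whiskerRight (yoneda.map q) uliftFunctor.{u + 1, u}) :=
    (Presheaf.isLocallySurjective_presheafToSheaf_map_iff _ _).1 ‹_›
  have hmem := hls.imageSieve_mem (U := M) (ULift.up (𝟙 M))
  rw [GrothendieckTopology.mem_over_iff] at hmem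
  change Sieve.overEquiv M _ ∈ Scheme.fppfPrecoverage.toGrothendieck M.left at hmem
  change Sieve.overEquiv M _ ∈ Scheme.grothendieckTopology (@Flat ⊓ @LocallyOfFinitePresentation) M.left at hmem
  haveI : (@Flat ⊓ @LocallyOfFinitePresentation : MorphismProperty Scheme.{u}).IsMultiplicative :=
    { id_mem := fun _ => ⟨inferInstance, inferInstance⟩
      comp_mem := fun f g hf hg => by
        obtain ⟨hf1, hf2⟩ := hf
        obtain ⟨hg1, hg2⟩ := hg
        exact ⟨inferInstance, inferInstance⟩ }
  rw [Scheme.mem_grothendieckTopology_iff] at hmem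
  obtain ⟨𝒰, hle⟩ := hmem
  constructor
  intro x
  obtain ⟨i, z, rfl⟩ := 𝒰.exists_eq x
  let g := 𝒰.f i
  have hg' := hle _ _ (Presieve.ofArrows.mk i)
  rw [Sieve.overEquiv_iff] at hg'
  obtain ⟨a, ha⟩ := hg'
  have ha' : a.down ≫ q = (Over.homMk g : Over.mk (g ≫ M.hom) ⟶ M) :=
    (congrArg ULift.down ha).trans (Category.comp_id (Over.homMk g : Over.mk (g ≫ M.hom) ⟶ M))
  refine ⟨a.down.left z, ?_⟩
  rw [← Scheme.Hom.comp_apply, ← Over.comp_left, ha']
  rfl

end Groth.L09.FreeQuot

namespace Groth.L09.FreeQuot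

theorem quasiCompact_of_comp_surjective {X Y Z : Scheme.{u}} (f : X ⟶ Y) (g : Y ⟶ Z) [Surjective f]
    [QuasiCompact (f ≫ g)] : QuasiCompact g := by
  rw [quasiCompact_iff]
  intro V hVo hVc
  have h : g ⁻¹' V = f '' ((f ≫ g) ⁻¹' V) := by
    rw [show ((f ≫ g) ⁻¹' V : Set X) = f ⁻¹' (g ⁻¹' V) from rfl, Set.image_preimage_eq _ f.surjective]
  rw [h]
  exact (QuasiCompact.isCompact_preimage (f := f ≫ g) V hVo hVc).image f.continuous

/-- Quasi-separatedness descends along quasi-compact surjections. -/
theorem quasiSeparated_of_comp {X Y Z : Scheme.{u}} (f : X ⟶ Y) (g : Y ⟶ Z) [Surjective f] [QuasiCompact f]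
    [QuasiSeparated (f ≫ g)] : QuasiSeparated g := by
  refine ⟨?_⟩
  haveI : QuasiCompact (pullback.map (f ≫ g) (f ≫ g) g g f f (𝟙 Z) (by simp) (by simp)) :=
    MorphismProperty.pullbackMap (P := @QuasiCompact) ‹_› ‹_› rfl rfl
  haveI : QuasiCompact (f ≫ pullback.diagonal g) := by
    have h : pullback.diagonal (f ≫ g) ≫ pullback.map (f ≫ g) (f ≫ g) g g f f (𝟙 Z) (by simp) (by simp) =
        f ≫ pullback.diagonal g := by
      apply pullback.hom_ext <;> simp
    rw [← h]
    infer_instance
  exact quasiCompact_of_comp_surjective f _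

end Groth.L09.FreeQuot
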