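import Groth.Agent.L09.FreeQuot.Quot
import Groth.Agent.L23.QsTop

/-!
# Separation properties of quotients by free finite group actions
-/

universe u

open CategoryTheory CategoryTheory.Limits AlgebraicGeometry Opposite AlgSp

set_option autoImplicit false
set_option linter.style.haveILetI false
set_option backward.isDefEq.respectTransparency false
set_option backward.isDefEq.respectTransparency.types false

noncomputable section

namespace Groth.L09.FreeQuot

open Groth.L23

variable {S : Scheme.{u}} {U : Over S} {G : Type u} [Group G] [Finite G] {c : Cofan (fun _ : G => U)}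

theorem isFinite_left (hc : IsColimit c) (s : c.pt ⟶ U) (hs : ∀ g, c.inj g ≫ s = 𝟙 U) : IsFinite s.left := by
  have h : IsFinite ((FreeAction.leftIso hc).hom ≫ s.left) := by
    have e : (FreeAction.leftIso hc).hom ≫ s.left = Sigma.desc fun _ : G => 𝟙 U.left :=
      Sigma.hom_ext _ _ fun g => by
        rw [← Category.assoc, FreeAction.ι_leftIso hc g, ← Over.comp_left, hs, Sigma.ι_desc]; rfl
    rw [e]
    let σ : G ≃ Fin (Nat.card G) := Finite.equivFin G
    haveI := Groth.L27.FEtGal.isFinite_foldId (Y := U.left) (Nat.card G)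
    have e' : (Sigma.desc fun _ : G => 𝟙 U.left) =
        (Sigma.reindex σ fun _ : Fin (Nat.card G) => U.left).hom ≫ Sigma.desc fun _ : Fin (Nat.card G) => 𝟙 U.left :=
      Sigma.hom_ext _ _ fun g => by
        have hr : Sigma.ι (fun _ : G => U.left) g ≫ (Sigma.reindex σ fun _ : Fin (Nat.card G) => U.left).hom =
            Sigma.ι (fun _ : Fin (Nat.card G) => U.left) (σ g) :=
          Sigma.ι_reindex_hom σ (fun _ : Fin (Nat.card G) => U.left) g
        rw [← Category.assoc]
        exact (Sigma.ι_desc _ g).trans ((congrArg (· ≫ Sigma.desc fun _ : Fin (Nat.card G) => 𝟙 U.left) hr).trans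
          (Sigma.ι_desc (fun _ : Fin (Nat.card G) => 𝟙 U.left) (σ g))).symm
    rw [e']
    infer_instance
  exact (MorphismProperty.cancel_left_of_respectsIso (P := @IsFinite) _ _).1 h

/-- The separation properties of the quotient. -/
theorem separation (hc : IsColimit c) (ρ : G →* Aut U) (hfree : IsFreeAct ρ) (s t : c.pt ⟶ U)
    (hs : ∀ g, c.inj g ≫ s = 𝟙 U) (ht : ∀ g, c.inj g ≫ t = (ρ g).hom) :
    (QuasiSeparated U.hom → IsQuasiSeparatedSp (QuotSh.quot Scheme.fppfPrecoverage s t)) ∧
      (IsSeparated U.hom → IsSeparatedSp (QuotSh.quot Scheme.fppfPrecoverage s t)) := by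
  have hE := FreeAction.isEtaleEqvRel hc ρ hfree s t hs ht
  haveI := hE.etale_left
  haveI := hE.etale_right
  haveI := isFinite_left hc s hs
  haveI : Surjective s.left := ⟨fun x => ⟨(c.inj 1).left x, by
    rw [← Scheme.Hom.comp_apply, ← Over.comp_left, hs]; rfl⟩⟩
  let Q : Sp S := quotSp ((yon S).map s) ((yon S).map t)
  have hQ : IsAlgSpace Q :=
    (Groth.L24.Boot.isAlgSpace_quot_of_flat hE.toIsEqvRel).of_iso (Groth.L24.Boot.quotIso s t)
  let π : (yon S).obj U ⟶ Q := quotSpπ _ _
  have sq : IsPullback ((yon S).map t) ((yon S).map s) π π :=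
    Groth.L24.Boot.isPullback_quotSpπ (Groth.L24.Boot.isEqvRelSp_of_isEqvRel hE.toIsEqvRel)
  haveI : Sheaf.IsLocallySurjective π := (Sheaf.isLocallySurjective_iff_epi' _ π).2
    (inferInstanceAs (Epi (coequalizer.π _ _)))
  haveI := isLocalAtTarget_fppf (@Etale.{u})
  haveI := isLocalAtTarget_fppf (@Surjective.{u})
  have hπr : Representable π := hQ.representable_from_yon π
  have hπe : RepWith @Etale π := repWith_of_locallySurjective hπr sq (repWith_map (show Etale s.left from inferInstance))
  have hπs : RepWith @Surjective π :=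
    repWith_of_locallySurjective hπr sq (repWith_map (show Surjective s.left from inferInstance))
  haveI : Sheaf.IsLocallySurjective (prod.map π π) := isLocallySurjective_of_etale _
    (prop_prod_map (RepWith @Etale) hπe hπe) (prop_prod_map (RepWith @Surjective) hπs hπs)
  have sd := isPullback_diag sq
  have e : prod.lift ((yon S).map t) ((yon S).map s) = (yon S).map (prod.lift t s) ≫ prodComparison (yon S) U U := by
    ext <;> simp [← Functor.map_comp]
  haveI : Mono (prod.lift t s).left := by
    haveI : Mono (prod.lift t s) := ⟨fun a b h => hE.injective _ a b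
      (by simpa using h =≫ prod.fst) (by simpa using h =≫ prod.snd)⟩
    exact inferInstanceAs (Mono ((Over.forget S).map (prod.lift t s)))
  have hcomp : (prod.lift t s).left ≫ (prod.snd : U ⨯ U ⟶ U).left = s.left := by
    rw [← Over.comp_left, prod.lift_snd]
  have hsnd : (prod.snd : U ⨯ U ⟶ U).left = (Over.prodLeftIsoPullback U U).hom ≫ pullback.snd U.hom U.hom :=
    (Over.prodLeftIsoPullback_hom_snd U U).symm
  constructor
  · intro hU
    haveI : QuasiSeparated (prod.snd : U ⨯ U ⟶ U).left := by rw [hsnd]; infer_instance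
    haveI : QuasiCompact (prod.lift t s).left := by
      haveI : QuasiCompact ((prod.lift t s).left ≫ (prod.snd : U ⨯ U ⟶ U).left) := by rw [hcomp]; infer_instance
      exact QuasiCompact.of_comp _ (prod.snd : U ⨯ U ⟶ U).left
    haveI := isLocalAtTarget_fppf (@QuasiCompact.{u})
    have h : IsQuasiSeparatedSp Q := repWith_of_locallySurjective hQ.diag sd (by
      rw [e]; exact (MorphismProperty.cancel_right_of_respectsIso (RepWith @QuasiCompact) _ _).2
        ((repWith_yon_map_iff _ _).2 ‹_›))
    haveI : Mono (Groth.L24.Boot.quotIso s t).hom := inferInstance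
    exact Qs.isQuasiSeparatedSp_of_mono h (Groth.L24.Boot.quotIso s t).hom
  · intro hU
    haveI : IsSeparated (prod.snd : U ⨯ U ⟶ U).left := by rw [hsnd]; infer_instance
    haveI : IsFinite (prod.lift t s).left := by
      haveI : IsFinite ((prod.lift t s).left ≫ (prod.snd : U ⨯ U ⟶ U).left) := by rw [hcomp]; infer_instance
      exact IsFinite.of_comp _ (prod.snd : U ⨯ U ⟶ U).left
    haveI : IsClosedImmersion (prod.lift t s).left := (IsClosedImmersion.iff_isFinite_and_mono _).2 ⟨inferInstance, inferInstance⟩
    haveI := isLocalAtTarget_fppf (@IsClosedImmersion.{u})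
    have h : IsSeparatedSp Q := repWith_of_locallySurjective hQ.diag sd (by
      rw [e]; exact (MorphismProperty.cancel_right_of_respectsIso (RepWith @IsClosedImmersion) _ _).2
        ((repWith_yon_map_iff _ _).2 ‹_›))
    haveI : Mono (Groth.L24.Boot.quotIso s t).hom := inferInstance
    exact repWith_of_isPullback (isPullback_diag (IsKernelPair.id_of_mono (Groth.L24.Boot.quotIso s t).hom :
      IsPullback (𝟙 _) (𝟙 _) (Groth.L24.Boot.quotIso s t).hom (Groth.L24.Boot.quotIso s t).hom)) h

end Groth.L09.FreeQuot
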